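import Groth.Agent.Lib.PicExt.Punctured
import Groth.Agent.Lib.Ample.Frame
import Groth.Agent.Lib.Ample.EquationCocycle
import Groth.Agent.Lib.InvExt.Transfer

/-!
# Invertible modules across isolated points of codimension at most one
-/

universe u

set_option backward.isDefEq.respectTransparency false
set_option linter.all false

open CategoryTheory AlgebraicGeometry TopologicalSpace Opposite
open GrothLib.InvExt (mres IsGen mres_mres mres_smul mres_self)
open GrothLib.Ample (Cocycle res res_res res_self)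

noncomputable section

namespace GrothLib.PicExt

variable {X : Scheme.{u}} {U : X.Opens} (N : (U : Scheme.{u}).Modules)

/-- Generators of the pushforward on a cover whose overlaps lie in the open. -/
structure Data where
  ι : Type u
  D : ι → X.Opens
  E : ∀ i, Γ((Scheme.Modules.pushforward U.ι).obj N, D i ⊓ U)
  gen : ∀ i, IsGen ((Scheme.Modules.pushforward U.ι).obj N) (D i ⊓ U) (E i)
  cover : ⨆ i, D i = ⊤
  disjoint : ∀ i j, i ≠ j → D i ⊓ D j ≤ U

namespace Data

variable {N} (P : Data N)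


open scoped Classical in
/-- The transition functions. -/
def g (i j : P.ι) : Γ(X, P.D i ⊓ P.D j) :=
  if h : i = j then 1 else
    ((P.gen i).exists_smul_eq (show P.D i ⊓ P.D j ≤ P.D i ⊓ U from le_inf inf_le_left (P.disjoint i j h))
      (mres ((Scheme.Modules.pushforward U.ι).obj N) (show P.D i ⊓ P.D j ≤ P.D j ⊓ U from le_inf inf_le_right (P.disjoint i j h)) (P.E j))).choose

theorem g_self (i : P.ι) {W : X.Opens} (h h' : W ≤ P.D i) : res (le_inf h h') (P.g i i) = 1 := by
  unfold g
  rw [dif_pos rfl, map_one]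

theorem g_smul (i j : P.ι) {W : X.Opens} (hi : W ≤ P.D i) (hj : W ≤ P.D j) (hU : W ≤ U) :
    mres ((Scheme.Modules.pushforward U.ι).obj N) (le_inf hj hU) (P.E j) = res (le_inf hi hj) (P.g i j) • mres ((Scheme.Modules.pushforward U.ι).obj N) (le_inf hi hU) (P.E i) := by
  by_cases h : i = j
  · subst h
    rw [P.g_self i hi hj, one_smul]
  · unfold g
    rw [dif_neg h]
    have := congrArg (mres ((Scheme.Modules.pushforward U.ι).obj N) (le_inf hi hj)) ((P.gen i).exists_smul_eq
      (show P.D i ⊓ P.D j ≤ P.D i ⊓ U from le_inf inf_le_left (P.disjoint i j h))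
      (mres ((Scheme.Modules.pushforward U.ι).obj N) (show P.D i ⊓ P.D j ≤ P.D j ⊓ U from le_inf inf_le_right (P.disjoint i j h)) (P.E j))).choose_spec
    rw [mres_mres, Ample.mres_smul', mres_mres] at this
    exact this

/-- The cocycle of the extension. -/
def cocycle : Cocycle X where
  ι := P.ι
  D := P.D
  g := P.g
  cover := P.cover
  self i W h := P.g_self i h h
  change i j k W hi hj hk := by
    by_cases hij : i = j
    · subst hij
      rw [P.g_self i hi hj, one_mul]
    · by_cases hjk : j = k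
      · subst hjk
        rw [P.g_self j hj hk, mul_one]
      · have hU : W ≤ U := (le_inf hi hj).trans (P.disjoint i j hij)
        refine (P.gen i).smul_left_injective (le_inf hi hU) ?_
        rw [← P.g_smul i k hi hk hU, P.g_smul j k hj hk hU, P.g_smul i j hi hj hU, smul_smul, mul_comm]

/-- The generators as sections on the pieces. -/
def m (i : P.ι) : Γ(((Scheme.Modules.pushforward U.ι).obj N), P.D i) :=
  ((InvExt.mres_pushforward_bijective N (inf_le_left : P.D i ⊓ U ≤ P.D i) le_rfl).2 (P.E i)).choose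

theorem mres_m (i : P.ι) {W : X.Opens} (h : W ≤ P.D i) (hU : W ≤ U) :
    mres ((Scheme.Modules.pushforward U.ι).obj N) h (P.m i) = mres ((Scheme.Modules.pushforward U.ι).obj N) (le_inf h hU) (P.E i) := by
  have := congrArg (mres ((Scheme.Modules.pushforward U.ι).obj N) (le_inf h hU))
    ((InvExt.mres_pushforward_bijective N (inf_le_left : P.D i ⊓ U ≤ P.D i) le_rfl).2 (P.E i)).choose_spec
  rw [mres_mres] at this
  exact this

theorem isFamily : P.cocycle.IsFamily 1 (M := ((Scheme.Modules.pushforward U.ι).obj N)) P.m := by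
  intro i j W hi hj
  refine (InvExt.mres_pushforward_bijective N (inf_le_left : W ⊓ U ≤ W) le_rfl).1 ?_
  rw [mres_mres, Ample.mres_smul', mres_mres, pow_one]
  refine (P.mres_m j (inf_le_left.trans hj) inf_le_right).trans ?_
  refine Eq.trans ?_ (congrArg (_ • ·) (P.mres_m i (inf_le_left.trans hi) inf_le_right)).symm
  refine (P.g_smul i j (inf_le_left.trans hi) (inf_le_left.trans hj) inf_le_right).trans ?_
  exact congrArg (· • _) (res_res _ _ _).symm

theorem nonempty_restrict_iso : Nonempty ((P.cocycle.twist 1).restrict U.ι ≅ N) := by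
  let c := P.cocycle
  let φ := c.homOfFamily P.isFamily
  haveI : IsIso ((Scheme.Modules.restrictFunctor U.ι).map φ) := by
    refine Ample.isIso_of_cover _ (fun i => U.ι ⁻¹ᵁ P.D i) ?_ fun i W hW => ?_
    · refine eq_top_iff.2 fun y _ => ?_
      obtain ⟨i, hi⟩ := Opens.mem_iSup.1 (P.cover.ge (Opens.mem_top (U.ι y)))
      exact Opens.mem_iSup.2 ⟨i, hi⟩
    have hWU : U.ι ''ᵁ W ≤ U := (U.ι.image_le_opensRange W).trans (by rw [Scheme.Opens.opensRange_ι])
    have hWD : U.ι ''ᵁ W ≤ P.D i := by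
      rintro _ ⟨y, hy, rfl⟩; exact hW hy
    show Function.Bijective (φ.app (U.ι ''ᵁ W))
    have hb : ∀ r : Γ(X, U.ι ''ᵁ W), φ.app (U.ι ''ᵁ W) (r • c.base 1 i hWD) =
        r • mres ((Scheme.Modules.pushforward U.ι).obj N) (le_inf hWD hWU) (P.E i) := fun r => by
      refine (Ample.app_smul φ r (c.base 1 i hWD)).trans ?_
      exact congrArg (r • ·) ((c.homOfFamily_base P.isFamily i hWD).trans (P.mres_m i hWD hWU))
    constructor
    · intro (a : c.sect 1 (U.ι ''ᵁ W)) (b : c.sect 1 (U.ι ''ᵁ W)) hab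
      rw [c.eq_smul_base i hWD a, c.eq_smul_base i hWD b] at hab
      have hab' := (hb _).symm.trans (hab.trans (hb _))
      rw [c.eq_smul_base i hWD a, c.eq_smul_base i hWD b, ((P.gen i) _ (le_inf hWD hWU)).1 hab']
    · intro t
      obtain ⟨r, hr⟩ := ((P.gen i) _ (le_inf hWD hWU)).2 t
      exact ⟨r • c.base 1 i hWD, (hb r).trans hr⟩
  exact ⟨asIso ((Scheme.Modules.restrictFunctor U.ι).map φ) ≪≫
    (Scheme.Modules.restrictFunctorAdjCounitIso U.ι).app N⟩

end Data

variable (U) [QuasiCompact U.ι]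

/-- An invertible module extends across isolated points of codimension at most one. -/
theorem exists_extension (hdisc : DiscreteTopology ↥((U : Set X)ᶜ))
    (hloc : ∀ x : X, x ∉ U → IsNoetherianRing (X.presheaf.stalk x) ∧ ringKrullDim (X.presheaf.stalk x) ≤ 1)
    (hN : PicF.IsInvertible N) :
    ∃ L : X.Modules, PicF.IsInvertible L ∧ Nonempty (L.restrict U.ι ≅ N) := by
  have h : ∀ x : X, ∃ (D : X.Opens) (E : Γ((Scheme.Modules.pushforward U.ι).obj N, D ⊓ U)), x ∈ D ∧
      IsGen ((Scheme.Modules.pushforward U.ι).obj N) (D ⊓ U) E ∧ ∀ y ∈ D, y ∉ U → y = x := by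
    intro x
    by_cases hx : x ∈ U
    · obtain ⟨V, e, hxV, hVU, he⟩ := InvExt.exists_gen_nhd_pushforward N hN hx
      exact ⟨V, mres _ inf_le_left e, hxV, he.restrict inf_le_left, fun y hy hyU => absurd (hVU hy) hyU⟩
    · obtain ⟨V, f, hV, hxV, hVx, hf⟩ := exists_equation U hdisc hx (hloc x hx).1 (hloc x hx).2
      obtain ⟨hfin, hanti, -⟩ := exists_data hV hxV (hloc x hx).1 (hloc x hx).2
      let S : Set U := U.ι ⁻¹' {y | y ⤳ x ∧ y ≠ x}
      have hU' : IsAffineOpen (U.ι ⁻¹ᵁ (V ⊓ U)) := (hf ▸ hV.basicOpen f).preimage_of_isOpenImmersion U.ι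
        (fun y hy => by rw [Scheme.Opens.opensRange_ι]; exact hy.2)
      have hgenz : ∀ y : U, y ∈ S → y ∈ U.ι ⁻¹ᵁ (V ⊓ U) := fun y hy => ⟨hy.1.mem_open V.2 hxV, y.2⟩
      obtain ⟨W, s, hSW, hs⟩ := InvExt.exists_gen_nhd_of_finite hN hU' S
        (hfin.preimage U.ι.isOpenEmbedding.injective.injOn) (fun y hy => hgenz y hy)
        (fun a ha b hb hab => U.ι.isOpenEmbedding.injective
          (hanti _ _ (hab.map U.ι.continuous) hb.1 hb.2))
      obtain ⟨t, hxt, ht⟩ := exists_sep hV hxV (U.ι ''ᵁ W).2.isClosed_compl f fun y hy hyx hyW => by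
        have hy' : y ∈ V ⊓ U := hf ▸ hy
        exact hyW ⟨⟨y, hy'.2⟩, hSW ⟨hyx, fun e => hx (e ▸ hy'.2)⟩, rfl⟩
      have hle : X.basicOpen t ⊓ U ≤ U.ι ''ᵁ W := fun y hy =>
        not_not.1 (ht y hy.1 (hf ▸ (⟨X.basicOpen_le t hy.1, hy.2⟩ : y ∈ V ⊓ U)))
      have hpre : U.ι ⁻¹ᵁ (X.basicOpen t ⊓ U) ≤ W := fun y hy => by
        obtain ⟨y', hy', he⟩ := hle hy
        exact (U.ι.isOpenEmbedding.injective he) ▸ hy'
      exact ⟨X.basicOpen t, mres N hpre s, hxt,
        InvExt.isGen_pushforward N inf_le_right (hs.restrict hpre),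
        fun y hy hyU => hVx y (X.basicOpen_le t hy) hyU⟩
  choose D E hxD hE hD using h
  let P : Data N :=
    { ι := X, D := D, E := E, gen := hE
      cover := eq_top_iff.2 fun y _ => Opens.mem_iSup.2 ⟨y, hxD y⟩
      disjoint := fun i j hij y hy => by_contra fun hyU => hij ((hD i y hy.1 hyU).symm.trans (hD j y hy.2 hyU)) }
  exact ⟨P.cocycle.twist 1, P.cocycle.isInvertible_twist 1, P.nonempty_restrict_iso⟩

/-- An open with discrete complement of codimension `≤ 1` is the locus of a section of an invertible module. -/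
theorem exists_section (hdisc : DiscreteTopology ↥((U : Set X)ᶜ))
    (hloc : ∀ x : X, x ∉ U → IsNoetherianRing (X.presheaf.stalk x) ∧ ringKrullDim (X.presheaf.stalk x) ≤ 1) :
    ∃ (L : X.Modules) (s : Coh.structureModule X ⟶ L), PicF.IsInvertible L ∧ CohB1.genLocus L s = U := by
  have h : ∀ x : X, ∃ (D : X.Opens) (f : Γ(X, D)), x ∈ D ∧ (∀ y ∈ D, y ∉ U → y = x) ∧ X.basicOpen f = D ⊓ U := by
    intro x
    by_cases hx : x ∈ U
    · exact ⟨U, 1, hx, fun y hy hy' => absurd hy hy', by rw [Scheme.basicOpen_of_isUnit X isUnit_one, inf_idem]⟩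
    · obtain ⟨V, f, -, hxV, hVx, hf⟩ := exists_equation U hdisc hx (hloc x hx).1 (hloc x hx).2
      exact ⟨V, f, hxV, hVx, hf⟩
  choose D f hxD hD hf using h
  let E : Ample.Equations X :=
    { ι := X, D := D, f := f, V := U
      cover := eq_top_iff.2 fun y _ => Opens.mem_iSup.2 ⟨y, hxD y⟩
      disjoint := fun i j hij y hy => by_contra fun hyU => hij ((hD i y hy.1 hyU).symm.trans (hD j y hy.2 hyU))
      basicOpen_eq := hf }
  exact ⟨E.cocycle.twist 1, E.cocycle.hom E.section₁, E.cocycle.isInvertible_twist 1,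
    (E.cocycle.genLocus_hom _).trans E.locus_section₁⟩

end GrothLib.PicExt
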