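import Groth.Agent.Lib.Ample.Frame
import Groth.Agent.Lib.Ample.CocPullback
import Groth.Agent.Lib.InvExt.Transfer
import Mathlib.AlgebraicGeometry.Morphisms.ClosedImmersion

/-!
# Invertible modules with prescribed restrictions to closed subschemes meeting in discrete sets
-/

universe u

set_option backward.isDefEq.respectTransparency false
set_option linter.all false

open CategoryTheory AlgebraicGeometry TopologicalSpace Opposite
open GrothLib.InvExt (mres IsGen mres_mres mres_smul mres_self)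
open GrothLib.Ample (Cocycle res res_res res_self)

noncomputable section

namespace GrothLib.PicExt

variable {X : Scheme.{u}}

/-- On an open contained in a closed subscheme of a reduced scheme the functions are those of the subscheme. -/
theorem bijective_app_of_le [IsReduced X] (I : X.IdealSheafData) {W : X.Opens}
    (h : ∀ y ∈ W, y ∈ I.support) : Function.Bijective (I.subschemeι.app W).hom := by
  haveI : Surjective (I.subschemeι ∣_ W) := ⟨fun y => by
    obtain ⟨z, hz⟩ : y.1 ∈ Set.range I.subschemeι := by rw [I.range_subschemeι]; exact h y.1 y.2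
    refine ⟨⟨z, show I.subschemeι z ∈ W from hz ▸ y.2⟩, Subtype.ext ?_⟩
    exact ((congr($(morphismRestrict_ι I.subschemeι W) ⟨z, show I.subschemeι z ∈ W from hz ▸ y.2⟩))).trans hz⟩
  haveI : IsClosedImmersion (I.subschemeι ∣_ W) := IsZariskiLocalAtTarget.restrict (P := @IsClosedImmersion) (f := I.subschemeι) inferInstance W
  haveI := isReduced_of_isOpenImmersion W.ι
  haveI := isIso_of_isClosedImmersion_of_surjective (I.subschemeι ∣_ W)
  haveI : IsIso ((I.subschemeι ∣_ W).app ⊤) := inferInstance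
  rw [morphismRestrict_app] at this
  haveI : IsIso (I.subschemeι.app (W.ι ''ᵁ ⊤)) := IsIso.of_isIso_comp_right _ (I.subscheme.presheaf.map (eqToHom (image_morphismRestrict_preimage I.subschemeι W ⊤)).op)
  have hW : W.ι ''ᵁ ⊤ = W := W.ι_image_top
  have key : ∀ V : X.Opens, V = W → IsIso (I.subschemeι.app V) → Function.Bijective (I.subschemeι.app W).hom := by
    rintro V rfl hV
    exact ConcreteCategory.bijective_of_isIso (I.subschemeι.app V)
  exact key _ hW this

variable {n : ℕ} (Z : Fin n → X.IdealSheafData) (L : ∀ i, (Z i).subscheme.Modules)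

/-- Generators on a cover of the modules on the pieces, with overlaps away from the common points. -/
structure GlueData where
  ι : Type u
  D : ι → X.Opens
  E : ∀ p i, Γ(L i, (Z i).subschemeι ⁻¹ᵁ D p)
  gen : ∀ p i, IsGen (L i) ((Z i).subschemeι ⁻¹ᵁ D p) (E p i)
  cover : ⨆ p, D p = ⊤
  sep : ∀ p q, p ≠ q → ∀ y ∈ D p ⊓ D q, ∃! i, y ∈ (Z i).support

namespace GlueData

variable {Z L} (P : GlueData Z L) [IsReduced X]

/-- `r` carries the generators at `p` to those at `q`. -/
def Rel (p q : P.ι) {W : X.Opens} (hp : W ≤ P.D p) (hq : W ≤ P.D q) (r : Γ(X, W)) : Prop :=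
  ∀ i, mres (L i) ((Z i).subschemeι.preimage_mono hq) (P.E q i) =
    (Z i).subschemeι.app W r • mres (L i) ((Z i).subschemeι.preimage_mono hp) (P.E p i)

theorem rel_res {p q : P.ι} {W W' : X.Opens} {hp : W ≤ P.D p} {hq : W ≤ P.D q} {r : Γ(X, W)}
    (h : W' ≤ W) (hr : P.Rel p q hp hq r) : P.Rel p q (h.trans hp) (h.trans hq) (res h r) := by
  intro i
  have := congrArg (mres (L i) ((Z i).subschemeι.preimage_mono h)) (hr i)
  rw [mres_mres, Ample.mres_smul', mres_mres] at this
  rw [this]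
  congr 1
  exact (congr($((Z i).subschemeι.naturality (homOfLE h).op) r)).symm

theorem exists_only {p q : P.ι} (hne : p ≠ q) {W : X.Opens} (hp : W ≤ P.D p) (hq : W ≤ P.D q) :
    ∃ Wi : Fin n → X.Opens, (∀ i, Wi i ≤ W) ∧ W ≤ ⨆ i, Wi i ∧
      ∀ i j, i ≠ j → ∀ y ∈ Wi i, y ∈ (Z i).support ∧ y ∉ (Z j).support := by
  refine ⟨fun i => W ⊓ ⟨(⋃ j ∈ {j : Fin n | j ≠ i}, ((Z j).support : Set X))ᶜ,
    (Set.Finite.isClosed_biUnion (Set.toFinite _) fun j _ => (Z j).support.isClosed).isOpen_compl⟩,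
    fun i => inf_le_left, fun y hy => ?_, fun i j hij y hy => ?_⟩
  · obtain ⟨i, hi, huniq⟩ := P.sep p q hne y ⟨hp hy, hq hy⟩
    refine Opens.mem_iSup.2 ⟨i, hy, fun h => ?_⟩
    obtain ⟨j, hj, hyj⟩ := Set.mem_iUnion₂.1 h
    exact hj (huniq j hyj)
  · obtain ⟨k, hk, -⟩ := P.sep p q hne y ⟨hp hy.1, hq hy.1⟩
    have hk' : k = i := by_contra fun h => hy.2 (Set.mem_iUnion₂.2 ⟨k, h, hk⟩)
    exact ⟨hk' ▸ hk, fun h => hy.2 (Set.mem_iUnion₂.2 ⟨j, hij.symm, h⟩)⟩

theorem rel_unique {p q : P.ι} (hne : p ≠ q) {W : X.Opens} {hp : W ≤ P.D p} {hq : W ≤ P.D q} {r r' : Γ(X, W)}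
    (hr : P.Rel p q hp hq r) (hr' : P.Rel p q hp hq r') : r = r' := by
  obtain ⟨Wi, hle, hcov, hWi⟩ := P.exists_only hne hp hq
  refine TopCat.Sheaf.eq_of_locally_eq' X.sheaf Wi W (fun i => homOfLE (hle i)) hcov r r' fun i => ?_
  refine (bijective_app_of_le (Z i) fun y hy => ?_).1 ?_
  · by_cases h : ∃ j, i ≠ j
    · obtain ⟨j, hj⟩ := h; exact (hWi i j hj y hy).1
    · obtain ⟨k, hk, -⟩ := P.sep p q hne y ⟨hp (hle i hy), hq (hle i hy)⟩
      push Not at h
      exact (h k) ▸ hk
  have h1 := P.rel_res (hle i) hr i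
  have h2 := P.rel_res (hle i) hr' i
  exact (P.gen p i).smul_left_injective _ (h1.symm.trans h2)

theorem exists_rel {p q : P.ι} (hne : p ≠ q) {W : X.Opens} (hp : W ≤ P.D p) (hq : W ≤ P.D q) :
    ∃ r, P.Rel p q hp hq r := by
  obtain ⟨Wi, hle, hcov, hWi⟩ := P.exists_only hne hp hq
  have hloc : ∀ i, ∃ r : Γ(X, Wi i), P.Rel p q ((hle i).trans hp) ((hle i).trans hq) r := by
    intro i
    obtain ⟨c, hc⟩ := (P.gen p i).exists_smul_eq ((Z i).subschemeι.preimage_mono ((hle i).trans hp))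
      (mres (L i) ((Z i).subschemeι.preimage_mono ((hle i).trans hq)) (P.E q i))
    have hbij : Function.Bijective ((Z i).subschemeι.app (Wi i)).hom := bijective_app_of_le (Z i) fun y hy => by
      by_cases h : ∃ j, i ≠ j
      · obtain ⟨j, hj⟩ := h; exact (hWi i j hj y hy).1
      · obtain ⟨k, hk, -⟩ := P.sep p q hne y ⟨hp (hle i hy), hq (hle i hy)⟩
        push Not at h
        exact (h k) ▸ hk
    obtain ⟨r, rfl⟩ := hbij.2 c
    refine ⟨r, fun j => ?_⟩
    by_cases hij : i = j
    · subst hij; exact hc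
    · haveI : Subsingleton Γ(L j, (Z j).subschemeι ⁻¹ᵁ Wi i) := InvExt.subsingleton_sections_of_eq_bot _
        (eq_bot_iff.2 fun z hz => (hWi i j hij _ hz).2 (by
          rw [← SetLike.mem_coe, ← (Z j).range_subschemeι]; exact ⟨z, rfl⟩))
      exact Subsingleton.elim _ _
  choose r hr using hloc
  obtain ⟨s, hs, -⟩ := X.sheaf.existsUnique_gluing' Wi W (fun i => homOfLE (hle i)) hcov r fun i j =>
    P.rel_unique hne (P.rel_res inf_le_left (hr i)) (P.rel_res (inf_le_right : Wi i ⊓ Wi j ≤ Wi j) (hr j))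
  let s' : Γ(X, W) := s
  refine ⟨s', fun j => ?_⟩
  refine TopCat.Sheaf.eq_of_locally_eq' ⟨(L j).presheaf, (L j).isSheaf⟩ (fun i => (Z j).subschemeι ⁻¹ᵁ Wi i)
    ((Z j).subschemeι ⁻¹ᵁ W) (fun i => homOfLE ((Z j).subschemeι.preimage_mono (hle i)))
    (fun z hz => by obtain ⟨i, hi⟩ := Opens.mem_iSup.1 (hcov hz); exact Opens.mem_iSup.2 ⟨i, hi⟩) _ _ fun i => ?_
  show mres (L j) _ (mres (L j) _ (P.E q j)) = mres (L j) _ ((Z j).subschemeι.app W s' • mres (L j) _ (P.E p j))
  rw [mres_mres, Ample.mres_smul', mres_mres, hr i j]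
  congr 1
  rw [show r i = res (hle i) s' from (hs i).symm]
  exact congr($((Z j).subschemeι.naturality (homOfLE (hle i)).op) s')

open scoped Classical in
/-- The transition functions. -/
def g (p q : P.ι) : Γ(X, P.D p ⊓ P.D q) :=
  if h : p = q then 1 else (P.exists_rel h (inf_le_left : P.D p ⊓ P.D q ≤ P.D p) inf_le_right).choose

theorem g_rel (p q : P.ι) {W : X.Opens} (hp : W ≤ P.D p) (hq : W ≤ P.D q) :
    P.Rel p q hp hq (res (le_inf hp hq) (P.g p q)) := by
  by_cases h : p = q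
  · subst h
    unfold g
    rw [dif_pos rfl, map_one]
    intro i
    rw [map_one, one_smul]
  · unfold g
    rw [dif_neg h]
    exact P.rel_res (le_inf hp hq) (P.exists_rel h inf_le_left inf_le_right).choose_spec

/-- The cocycle of the glued module. -/
def cocycle : Cocycle X where
  ι := P.ι
  D := P.D
  g := P.g
  cover := P.cover
  self p W h := by unfold g; rw [dif_pos rfl, map_one]
  change p q r W hp hq hr := by
    by_cases hpr : p = r
    · subst hpr
      by_cases hpq : p = q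
      · subst hpq
        unfold g
        rw [dif_pos rfl, map_one, one_mul]
      · -- both sides carry the generators at `q` to themselves
        have h1 : res (le_inf hp hr) (P.g p p) = 1 := by unfold g; rw [dif_pos rfl, map_one]
        rw [h1]
        obtain ⟨Wi, hle, hcov, hWi⟩ := P.exists_only hpq hp hq
        refine TopCat.Sheaf.eq_of_locally_eq' X.sheaf Wi W (fun i => homOfLE (hle i)) hcov _ _ fun i => ?_
        refine (bijective_app_of_le (Z i) fun y hy => ?_).1 ?_
        · by_cases h : ∃ j, i ≠ j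
          · obtain ⟨j, hj⟩ := h; exact (hWi i j hj y hy).1
          · obtain ⟨k, hk, -⟩ := P.sep p q hpq y ⟨hp (hle i hy), hq (hle i hy)⟩
            push Not at h
            exact (h k) ▸ hk
        refine (P.gen p i).smul_left_injective ((Z i).subschemeι.preimage_mono ((hle i).trans hp)) ?_
        show (Z i).subschemeι.app (Wi i) (res (hle i) 1) • _ = (Z i).subschemeι.app (Wi i) (res (hle i) (_ * _)) • _
        rw [map_one, map_one, one_smul, map_mul, map_mul, res_res, res_res, mul_comm, ← smul_smul,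
          ← P.g_rel p q ((hle i).trans hp) ((hle i).trans hq) i,
          ← P.g_rel q p ((hle i).trans hq) ((hle i).trans hp) i]
    · refine P.rel_unique hpr (P.g_rel p r hp hr) fun i => ?_
      rw [P.g_rel q r hq hr i, P.g_rel p q hp hq i, smul_smul, map_mul, mul_comm]

theorem isInvertible : PicF.IsInvertible (P.cocycle.twist 1) := P.cocycle.isInvertible_twist 1

theorem nonempty_pullback_iso (i : Fin n) :
    Nonempty ((Scheme.Modules.pullback (Z i).subschemeι).obj (P.cocycle.twist 1) ≅ L i) := by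
  let c := P.cocycle.comap (Z i).subschemeι
  have hm : c.IsFamily 1 (M := L i) fun p => P.E p i := by
    intro p q W hp hq
    rw [pow_one]
    refine Eq.trans ?_ (congrArg (· • _) (P.cocycle.comap_G (Z i).subschemeι p q hp hq).symm)
    have h := congrArg (mres (L i) (show W ≤ (Z i).subschemeι ⁻¹ᵁ (P.D p ⊓ P.D q) from le_inf hp hq))
      (P.g_rel p q (inf_le_left : P.D p ⊓ P.D q ≤ P.D p) inf_le_right i)
    rw [mres_mres, Ample.mres_smul', mres_mres, res_self] at h
    exact h
  haveI := c.isIso_homOfFamily hm fun p => P.gen p i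
  exact ⟨(P.cocycle.nonempty_pullback_twist (Z i).subschemeι 1).some ≪≫ asIso (c.homOfFamily hm)⟩

end GlueData

/-- Invertible modules on closed subschemes meeting in discrete sets glue. -/
theorem exists_glue [IsReduced X] (hcov : ⋃ i, ((Z i).support : Set X) = Set.univ)
    (hdisc : ∀ i j, i ≠ j → DiscreteTopology ↥(((Z i).support : Set X) ∩ ((Z j).support : Set X)))
    (hL : ∀ i, PicF.IsInvertible (L i)) :
    ∃ M : X.Modules, PicF.IsInvertible M ∧
      ∀ i, Nonempty ((Scheme.Modules.pullback (Z i).subschemeι).obj M ≅ L i) := by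
  classical
  have hloc : ∀ x : X, ∀ i, ∃ (V : X.Opens) (E : Γ(L i, (Z i).subschemeι ⁻¹ᵁ V)), x ∈ V ∧
      IsGen (L i) ((Z i).subschemeι ⁻¹ᵁ V) E := by
    intro x i
    by_cases hx : x ∈ (Z i).support
    · obtain ⟨z, rfl⟩ : x ∈ Set.range (Z i).subschemeι := by rw [(Z i).range_subschemeι]; exact hx
      obtain ⟨W, e, hzW, he⟩ := InvExt.exists_gen_nhd (hL i) z
      obtain ⟨V, hV, hVW⟩ := ((Z i).subschemeι.isClosedEmbedding.isInducing.isOpen_iff).1 W.2
      have hle : (Z i).subschemeι ⁻¹ᵁ ⟨V, hV⟩ ≤ W := fun y hy => Set.ext_iff.1 hVW y |>.1 hy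
      exact ⟨⟨V, hV⟩, mres _ hle e, (Set.ext_iff.1 hVW z).2 hzW, he.restrict hle⟩
    · refine ⟨⟨((Z i).support : Set X)ᶜ, (Z i).support.isClosed.isOpen_compl⟩, 0, hx, fun T hT => ?_⟩
      have hT0 : T = ⊥ := eq_bot_iff.2 fun z hz => hT hz (by
        show (Z i).subschemeι z ∈ ((Z i).support : Set X)
        rw [← (Z i).range_subschemeι]; exact ⟨z, rfl⟩)
      haveI := InvExt.subsingleton_sections_of_eq_bot (L i) hT0
      haveI : Subsingleton Γ((Z i).subscheme, T) := by rw [hT0]; infer_instance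
      exact ⟨fun a b _ => Subsingleton.elim a b, fun b => ⟨0, Subsingleton.elim _ _⟩⟩
  choose V E hxV hE using hloc
  let bad : Set X := ⋃ (i : Fin n) (j : Fin n) (_ : i ≠ j), ((Z i).support : Set X) ∩ (Z j).support
  have hsep : ∀ x : X, ∃ O : X.Opens, x ∈ O ∧ ∀ y ∈ O, y ∈ bad → y = x := by
    intro x
    have h2 : ∀ ij : Fin n × Fin n, ∃ O : X.Opens, x ∈ O ∧
        ∀ y ∈ O, ij.1 ≠ ij.2 → y ∈ (Z ij.1).support → y ∈ (Z ij.2).support → y = x := by
      rintro ⟨i, j⟩
      by_cases hij : i = j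
      · exact ⟨⊤, trivial, fun y _ h => absurd hij h⟩
      by_cases hx : x ∈ ((Z i).support : Set X) ∩ (Z j).support
      · haveI := hdisc i j hij
        obtain ⟨O, hO, hOeq⟩ := isOpen_induced_iff.1 (isOpen_discrete
          ({⟨x, hx⟩} : Set ↥(((Z i).support : Set X) ∩ ((Z j).support : Set X))))
        refine ⟨⟨O, hO⟩, (Set.ext_iff.1 hOeq ⟨x, hx⟩).2 rfl, fun y hy _ h1 h2 => ?_⟩
        exact congrArg Subtype.val ((Set.ext_iff.1 hOeq ⟨y, h1, h2⟩).1 hy :
          (⟨y, h1, h2⟩ : ↥(((Z i).support : Set X) ∩ ((Z j).support : Set X))) = ⟨x, hx⟩)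
      · exact ⟨⟨_, ((Z i).support.isClosed.inter (Z j).support.isClosed).isOpen_compl⟩, hx,
          fun y hy _ h1 h2 => absurd ⟨h1, h2⟩ hy⟩
    choose O hxO hO using h2
    refine ⟨⟨⋂ ij, (O ij : Set X), isOpen_iInter_of_finite fun ij => (O ij).2⟩, Set.mem_iInter.2 hxO, fun y hy hb => ?_⟩
    simp only [bad, Set.mem_iUnion, Set.mem_inter_iff] at hb
    obtain ⟨i, j, hij, h1, h2⟩ := hb
    exact hO (i, j) y (Set.mem_iInter.1 hy (i, j)) hij h1 h2
  choose O hxO hO using hsep
  let D : X → X.Opens := fun x => O x ⊓ ⟨⋂ i, (V x i : Set X), isOpen_iInter_of_finite fun i => (V x i).2⟩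
  have hDV : ∀ x i, D x ≤ V x i := fun x i y hy => Set.mem_iInter.1 hy.2 i
  let P : GlueData Z L :=
    { ι := X, D := D
      E := fun x i => mres (L i) ((Z i).subschemeι.preimage_mono (hDV x i)) (E x i)
      gen := fun x i => (hE x i).restrict _
      cover := eq_top_iff.2 fun y _ => Opens.mem_iSup.2 ⟨y, hxO y, Set.mem_iInter.2 (hxV y)⟩
      sep := fun p q hpq y hy => by
        obtain ⟨i, hi⟩ := Set.mem_iUnion.1 (hcov.symm ▸ Set.mem_univ y : y ∈ ⋃ i, ((Z i).support : Set X))
        refine ⟨i, hi, fun j hj => by_contra fun hji => hpq ?_⟩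
        have hb : y ∈ bad := Set.mem_iUnion.2 ⟨j, Set.mem_iUnion.2 ⟨i, Set.mem_iUnion.2 ⟨hji, hj, hi⟩⟩⟩
        exact (hO p y hy.1.1 hb).symm.trans (hO q y hy.2.1 hb) }
  exact ⟨P.cocycle.twist 1, P.isInvertible, P.nonempty_pullback_iso⟩

end GrothLib.PicExt
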