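import Mathlib.AlgebraicGeometry.AffineScheme
import Mathlib.RingTheory.Ideal.MinimalPrime.Noetherian
import Mathlib.RingTheory.KrullDimension.Basic
import Mathlib.RingTheory.Localization.AtPrime.Basic
import Groth.Agent.Lib.InvExt.FiniteFibre

/-!
# Neighbourhoods of isolated points of codimension at most one
-/

universe u

set_option backward.isDefEq.respectTransparency false
set_option linter.all false

open CategoryTheory AlgebraicGeometry TopologicalSpace Opposite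
open GrothLib.InvExt (mres IsGen fres)

noncomputable section

namespace GrothLib.PicExt

variable {A : Type*} [CommRing A]

theorem exists_mul_pow_mem (P : Ideal A) [P.IsPrime] (I : Ideal A) (f : A)
    (h : ∀ q : Ideal A, q.IsPrime → q ≤ P → f ∈ q ∨ ¬ I ≤ q) : ∃ s ∉ P, ∃ n : ℕ, s * f ^ n ∈ I := by
  by_contra hne
  push Not at hne
  have hd : Disjoint (I : Set A) ((P.primeCompl ⊔ Submonoid.powers f : Submonoid A) : Set A) := by
    rw [Set.disjoint_left]
    intro a haI ha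
    obtain ⟨s, hs, _, ⟨n, rfl⟩, rfl⟩ := Submonoid.mem_sup.1 ha
    exact hne s hs n haI
  obtain ⟨q, hq, hIq, hdq⟩ := Ideal.exists_le_prime_disjoint I _ hd
  have hqP : q ≤ P := fun a ha => by_contra fun hne' => Set.disjoint_left.1 hdq ha
    (Submonoid.mem_sup_left (show a ∈ P.primeCompl from hne'))
  rcases h q hq hqP with hf | hI
  · exact Set.disjoint_left.1 hdq hf (Submonoid.mem_sup_right (Submonoid.mem_powers f))
  · exact hI hIq

/-- Below a prime of dimension at most one there are finitely many other primes, which can be avoided. -/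
theorem exists_avoid (P : Ideal A) [P.IsPrime] (L : Type*) [CommRing L] [Algebra A L]
    [IsLocalization.AtPrime L P] [IsNoetherianRing L] [Ring.KrullDimLE 1 L] :
    {q : Ideal A | q.IsPrime ∧ q ≤ P ∧ q ≠ P}.Finite ∧
    (∀ q q' : Ideal A, q.IsPrime → q'.IsPrime → q ≤ q' → q' ≤ P → q' ≠ P → q = q') ∧
    ∃ a ∈ P, ∀ q : Ideal A, q.IsPrime → q ≤ P → a ∈ q → q = P := by
  classical
  haveI : IsLocalRing L := IsLocalization.AtPrime.isLocalRing L P
  let M := P.primeCompl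
  have hcomap : ∀ q : Ideal A, q.IsPrime → q ≤ P →
      (q.map (algebraMap A L)).IsPrime ∧ (q.map (algebraMap A L)).comap (algebraMap A L) = q := by
    intro q hq hqP
    have hd : Disjoint (M : Set A) (q : Set A) := Set.disjoint_left.2 fun a ha haq => ha (hqP haq)
    exact ⟨IsLocalization.isPrime_of_isPrime_disjoint M L q hq hd,
      IsLocalization.comap_map_of_isPrime_disjoint M L hq hd⟩
  have hmax : (IsLocalRing.maximalIdeal L).comap (algebraMap A L) = P :=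
    IsLocalization.AtPrime.comap_maximalIdeal L P
  have hmin : ∀ q : Ideal A, q.IsPrime → q ≤ P → q ≠ P →
      q.map (algebraMap A L) ∈ minimalPrimes L ∧ q.map (algebraMap A L) ≠ IsLocalRing.maximalIdeal L := by
    intro q hq hqP hne
    obtain ⟨h1, h2⟩ := hcomap q hq hqP
    have h3 : q.map (algebraMap A L) ≠ IsLocalRing.maximalIdeal L := fun h => hne (by rw [← h2, h, hmax])
    exact ⟨(Ring.krullDimLE_one_iff.1 inferInstance _ h1).resolve_right
      fun h => h3 (IsLocalRing.eq_maximalIdeal h), h3⟩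
  have hfin := minimalPrimes.finite_of_isNoetherianRing L
  refine ⟨?_, ?_, ?_⟩
  · refine (hfin.image fun p => p.comap (algebraMap A L)).subset fun q ⟨hq, hqP, hne⟩ => ?_
    exact ⟨_, (hmin q hq hqP hne).1, (hcomap q hq hqP).2⟩
  · intro q q' hq hq' hle hq'P hne
    obtain ⟨h1, -⟩ := hcomap q hq (hle.trans hq'P)
    have h := (hmin q' hq' hq'P hne).1.2 ⟨h1, bot_le⟩ (Ideal.map_mono hle)
    refine le_antisymm hle ?_
    rw [← (hcomap q hq (hle.trans hq'P)).2, ← (hcomap q' hq' hq'P).2]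
    exact Ideal.comap_mono h
  · let S := (hfin.subset fun p (hp : p ∈ minimalPrimes L ∧ p ≠ IsLocalRing.maximalIdeal L) => hp.1).toFinset
    obtain ⟨b, hbm, hb⟩ : ∃ b ∈ IsLocalRing.maximalIdeal L, ∀ p ∈ S, b ∉ p := by
      by_contra hne
      push Not at hne
      have hsub : (IsLocalRing.maximalIdeal L : Set L) ⊆ ⋃ p ∈ (S : Set (Ideal L)), (p : Set L) :=
        fun b hb => Set.mem_iUnion₂.2 (by obtain ⟨p, hp, hbp⟩ := hne b hb; exact ⟨p, hp, hbp⟩)
      obtain ⟨p, hp, hle⟩ := (Ideal.subset_union_prime (f := id) ⊥ ⊥ fun p hp _ _ =>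
        ((Set.Finite.mem_toFinset _).1 hp).1.1.1).1 hsub
      obtain ⟨h1, h2⟩ := (Set.Finite.mem_toFinset _).1 hp
      exact h2 (le_antisymm (IsLocalRing.le_maximalIdeal h1.1.1.ne_top) hle)
    obtain ⟨⟨a, s⟩, has⟩ := IsLocalization.surj M b
    refine ⟨a, ?_, fun q hq hqP haq => ?_⟩
    · rw [← hmax, Ideal.mem_comap, ← has]
      exact Ideal.mul_mem_right _ _ hbm
    · by_contra hne
      obtain ⟨h1, h2⟩ := hcomap q hq hqP
      refine hb _ ((Set.Finite.mem_toFinset _).2 (hmin q hq hqP hne)) ?_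
      have h4 : b * algebraMap A L s ∈ q.map (algebraMap A L) := has ▸ Ideal.mem_map_of_mem _ haq
      exact (h1.mem_or_mem h4).resolve_right fun h => s.2 (hqP (h2.le h))

variable {X : Scheme.{u}}

theorem mem_basicOpen_iff {V : X.Opens} (hV : IsAffineOpen V) (p : PrimeSpectrum Γ(X, V)) (g : Γ(X, V)) :
    hV.fromSpec p ∈ X.basicOpen g ↔ g ∉ p.asIdeal := by
  show p ∈ hV.fromSpec ⁻¹ᵁ X.basicOpen g ↔ _
  rw [hV.fromSpec_preimage_basicOpen]
  rfl

theorem le_of_specializes {V : X.Opens} (hV : IsAffineOpen V) (p q : PrimeSpectrum Γ(X, V)) :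
    hV.fromSpec q ⤳ hV.fromSpec p ↔ q.asIdeal ≤ p.asIdeal := by
  rw [hV.fromSpec.isOpenEmbedding.isInducing.specializes_iff]
  exact (PrimeSpectrum.le_iff_specializes q p).symm

/-- Separating a point from a closed set which contains none of its generalisations in `D(h)`. -/
theorem exists_sep {V : X.Opens} (hV : IsAffineOpen V) {x : X} (hx : x ∈ V) {Z : Set X} (hZ : IsClosed Z)
    (h : Γ(X, V)) (H : ∀ y ∈ X.basicOpen h, y ⤳ x → y ∉ Z) :
    ∃ s : Γ(X, V), x ∈ X.basicOpen s ∧ ∀ y ∈ X.basicOpen s, y ∈ X.basicOpen h → y ∉ Z := by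
  obtain ⟨p, rfl⟩ : x ∈ Set.range hV.fromSpec := by rw [hV.range_fromSpec]; exact hx
  let T : Set (PrimeSpectrum Γ(X, V)) := hV.fromSpec ⁻¹' Z
  let I : Ideal Γ(X, V) := PrimeSpectrum.vanishingIdeal T
  have hT : PrimeSpectrum.zeroLocus (I : Set Γ(X, V)) = T := by
    rw [PrimeSpectrum.zeroLocus_vanishingIdeal_eq_closure]
    exact (hZ.preimage hV.fromSpec.continuous).closure_eq
  obtain ⟨s, hs, n, hn⟩ := exists_mul_pow_mem p.asIdeal I h fun q hq hqp => or_iff_not_imp_left.2 fun hh hIq => by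
    have hmem : (⟨q, hq⟩ : PrimeSpectrum Γ(X, V)) ∈ T := hT ▸ hIq
    exact H _ ((mem_basicOpen_iff hV _ h).2 hh) ((le_of_specializes hV p ⟨q, hq⟩).2 hqp) hmem
  refine ⟨s, (mem_basicOpen_iff hV p s).2 hs, fun y hys hyh hyZ => ?_⟩
  obtain ⟨q, rfl⟩ : y ∈ Set.range hV.fromSpec := by rw [hV.range_fromSpec]; exact X.basicOpen_le s hys
  have h1 : (I : Set Γ(X, V)) ⊆ q.asIdeal := (hT ▸ (show q ∈ T from hyZ) : q ∈ PrimeSpectrum.zeroLocus (I : Set Γ(X, V)))
  exact (q.isPrime.mem_or_mem (h1 hn)).elim ((mem_basicOpen_iff hV q s).1 hys)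
    fun hf => (mem_basicOpen_iff hV q h).1 hyh (q.isPrime.mem_of_pow_mem n hf)

theorem exists_data {V : X.Opens} (hV : IsAffineOpen V) {x : X} (hx : x ∈ V)
    (hN : IsNoetherianRing (X.presheaf.stalk x)) (hd : ringKrullDim (X.presheaf.stalk x) ≤ 1) :
    {y | y ⤳ x ∧ y ≠ x}.Finite ∧ (∀ y z : X, y ⤳ z → z ⤳ x → z ≠ x → y = z) ∧
      ∃ f : Γ(X, V), x ∉ X.basicOpen f ∧ ∀ y, y ⤳ x → y ≠ x → y ∈ X.basicOpen f := by
  obtain ⟨p, rfl⟩ : x ∈ Set.range hV.fromSpec := by rw [hV.range_fromSpec]; exact hx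
  letI : Algebra Γ(X, V) (X.presheaf.stalk (hV.fromSpec p)) :=
    TopCat.Presheaf.algebra_section_stalk X.presheaf (⟨hV.fromSpec p, hx⟩ : V)
  haveI : IsLocalization.AtPrime (X.presheaf.stalk (hV.fromSpec p)) p.asIdeal := hV.isLocalization_stalk' p hx
  haveI : Ring.KrullDimLE 1 (X.presheaf.stalk (hV.fromSpec p)) := Ring.krullDimLE_iff.2 hd
  obtain ⟨h1, h2, a, ha, ha'⟩ := exists_avoid p.asIdeal (X.presheaf.stalk (hV.fromSpec p))
  have hlift : ∀ y, y ⤳ hV.fromSpec p → ∃ q : PrimeSpectrum Γ(X, V),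
      hV.fromSpec q = y ∧ q.asIdeal ≤ p.asIdeal := by
    intro y hy
    obtain ⟨q, rfl⟩ : y ∈ Set.range hV.fromSpec := by rw [hV.range_fromSpec]; exact hy.mem_open V.2 hx
    exact ⟨q, rfl, (le_of_specializes hV p q).1 hy⟩
  refine ⟨?_, ?_, a, fun h => (mem_basicOpen_iff hV p a).1 h ha, fun y hy hne => ?_⟩
  · have hfin : {q : PrimeSpectrum Γ(X, V) | q.asIdeal ≤ p.asIdeal ∧ q.asIdeal ≠ p.asIdeal}.Finite :=
      (h1.preimage fun a _ b _ hab => PrimeSpectrum.ext hab).subset fun q hq => ⟨q.isPrime, hq.1, hq.2⟩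
    refine (hfin.image hV.fromSpec).subset fun y ⟨hy, hne⟩ => ?_
    obtain ⟨q, rfl, hq⟩ := hlift y hy
    exact ⟨q, ⟨hq, fun h => hne (by rw [PrimeSpectrum.ext h])⟩, rfl⟩
  · intro y z hyz hz hne
    obtain ⟨q', rfl, hq'⟩ := hlift z hz
    obtain ⟨q, rfl, hq⟩ := hlift y (hyz.trans hz)
    rw [PrimeSpectrum.ext (h2 _ _ q.isPrime q'.isPrime ((le_of_specializes hV q' q).1 hyz) hq'
      fun h => hne (by rw [PrimeSpectrum.ext h]))]
  · obtain ⟨q, rfl, hq⟩ := hlift y hy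
    exact (mem_basicOpen_iff hV q a).2 fun h => hne (by rw [PrimeSpectrum.ext (ha' _ q.isPrime hq h)])

variable (U : X.Opens) [QuasiCompact U.ι]

/-- An affine neighbourhood of an isolated outer point of codimension `≤ 1` meets `U` in the complement of a zero locus. -/
theorem exists_equation (hdisc : DiscreteTopology ↥((U : Set X)ᶜ)) {x : X} (hx : x ∉ U)
    (hN : IsNoetherianRing (X.presheaf.stalk x)) (hd : ringKrullDim (X.presheaf.stalk x) ≤ 1) :
    ∃ (V : X.Opens) (f : Γ(X, V)), IsAffineOpen V ∧ x ∈ V ∧ (∀ y ∈ V, y ∉ U → y = x) ∧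
      X.basicOpen f = V ⊓ U := by
  classical
  obtain ⟨O, hO, hOx⟩ : ∃ O : X.Opens, x ∈ O ∧ ∀ y ∈ O, y ∉ U → y = x := by
    haveI := hdisc
    obtain ⟨O, hO, hOeq⟩ := isOpen_induced_iff.1 (isOpen_discrete ({⟨x, hx⟩} : Set ↥((U : Set X)ᶜ)))
    refine ⟨⟨O, hO⟩, (Set.ext_iff.1 hOeq ⟨x, hx⟩).2 rfl, fun y hy hyU => ?_⟩
    exact congrArg Subtype.val ((Set.ext_iff.1 hOeq ⟨y, hyU⟩).1 hy : (⟨y, hyU⟩ : ↥((U : Set X)ᶜ)) = ⟨x, hx⟩)
  obtain ⟨V, hV, hxV, hVO⟩ := exists_isAffineOpen_mem_and_subset hO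
  obtain ⟨-, -, f, hfx, hf⟩ := exists_data hV hxV hN hd
  have hcpt : IsCompact ((V ⊓ U : X.Opens) : Set X) := by
    have h := (U.ι.isCompact_preimage hV.isCompact).image U.ι.continuous
    rw [Scheme.Hom.coe_preimage] at h
    rwa [Set.image_preimage_eq_inter_range, Scheme.Opens.range_ι] at h
  have key : ∀ y ∈ V ⊓ U, ∃ h s : Γ(X, V), y ∈ X.basicOpen h ∧ X.basicOpen h ≤ U ∧ x ∈ X.basicOpen s ∧
      ∀ z ∈ X.basicOpen s, z ∈ X.basicOpen h → z ∈ X.basicOpen f := by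
    intro y hy
    obtain ⟨h, hle, hyh⟩ := hV.exists_basicOpen_le (V := U) ⟨y, hy.2⟩ hy.1
    obtain ⟨s, hxs, hs⟩ := exists_sep hV hxV (X.basicOpen f).2.isClosed_compl h fun z hzh hzx hz => by
      refine hz (hf z hzx fun e => hx (e ▸ hle hzh))
    exact ⟨h, s, hyh, hle, hxs, fun z h1 h2 => not_not.1 (hs z h1 h2)⟩
  choose h s hyh hle hxs hs using key
  obtain ⟨F, hF⟩ := hcpt.elim_finite_subcover (fun y : ↥(V ⊓ U : X.Opens) => (X.basicOpen (h y.1 y.2) : Set X))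
    (fun y => (X.basicOpen _).2) fun y hy => Set.mem_iUnion.2 ⟨⟨y, hy⟩, hyh y hy⟩
  let g : Γ(X, V) := ∏ y ∈ F, s y.1 y.2
  have hg : ∀ z : X, z ∈ X.basicOpen g ↔ z ∈ V ∧ ∀ y ∈ F, z ∈ X.basicOpen (s y.1 y.2) := by
    intro z
    constructor
    · intro hz
      obtain ⟨q, rfl⟩ : z ∈ Set.range hV.fromSpec := by rw [hV.range_fromSpec]; exact X.basicOpen_le g hz
      refine ⟨X.basicOpen_le g hz, fun y hy => (mem_basicOpen_iff hV q _).2 fun hq => (mem_basicOpen_iff hV q g).1 hz ?_⟩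
      exact q.asIdeal.prod_mem hy hq
    · rintro ⟨hzV, hz⟩
      obtain ⟨q, rfl⟩ : z ∈ Set.range hV.fromSpec := by rw [hV.range_fromSpec]; exact hzV
      refine (mem_basicOpen_iff hV q g).2 fun hgq => ?_
      obtain ⟨y, hy, hyq⟩ := q.isPrime.prod_mem_iff.1 hgq
      exact (mem_basicOpen_iff hV q _).1 (hz y hy) hyq
  refine ⟨X.basicOpen g, fres X (X.basicOpen_le g) f, hV.basicOpen g, (hg x).2 ⟨hxV, fun y _ => hxs y.1 y.2⟩,
    fun y hy => hOx y (hVO (X.basicOpen_le g hy)), ?_⟩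
  refine (X.basicOpen_res f _).trans (Opens.ext (Set.ext fun z => ?_))
  constructor
  · rintro ⟨hzg, hzf⟩
    refine ⟨hzg, by_contra fun hzU => ?_⟩
    exact hfx (hOx z (hVO (X.basicOpen_le g hzg)) hzU ▸ hzf)
  · rintro ⟨hzg, hzU⟩
    obtain ⟨y, hy, hzh⟩ := Set.mem_iUnion₂.1 (hF (show z ∈ V ⊓ U from ⟨X.basicOpen_le g hzg, hzU⟩))
    exact ⟨hzg, hs y.1 y.2 z (((hg z).1 hzg).2 y hy) hzh⟩

end GrothLib.PicExt
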